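import Cfsg.Agent.H516.TwoFrame
import Cfsg.Agent.H16.NunFi24

/-!
# The row of `Fi24'` at the prime 2 for S4094 and S3842 (helper462)

* `false_of_nun'` : `NUN G` is impossible in the context `Wk 2 N x` (`x` inner or outer);
* `nun_F` : `NUN Fi24`;
* `fi24` : the row.
-/

set_option autoImplicit false
set_option maxRecDepth 100000

namespace Cfsg.Agent.H462.TwoRow.FiTF

open Subgroup Cfsg Cfsg.Agent.UniqLoc Cfsg.Agent.H516.Two Cfsg.Agent.H472.ComRed Cfsg.Agent.H516.Zip
open Cfsg.Agent.Lib.Cores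

universe u

section frame

variable {G : Type u} [Group G] [Finite G] {N : Subgroup G} {x : G}

/-- **`NUN G` is impossible.** -/
theorem false_of_nun' (h : Wk 2 N x) (hx2 : 2 ∣ orderOf x) (hn' : NUN G) : False := by
  have h2 : Fact (Nat.Prime 2) := ⟨Nat.prime_two⟩
  obtain ⟨T, hT, hxT⟩ := exists_mx_norm h hx2
  obtain ⟨W, hWp, hW1, hW⟩ := unique h hx2 hT hxT
  have hT1 : T ≠ ⊥ := by
    intro h3
    obtain ⟨m, hm1, hm⟩ := exists_ppart (p := 2) hx2
    have h4 := ppart_le hm hT hxT (mem_zpowers _)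
    rw [h3, mem_bot] at h4
    exact hm1 h4
  let TS : Sylow 2 G :=
    { toSubgroup := T
      isPGroup' := hT.pg
      is_maximal' := fun {Q} hQ hTQ => le_antisymm (hT.max Q le_top hQ hTQ) hTQ }
  refine hn' TS (normalizer (W : Set G)) ?_
  have hNT := normalizer_ne_top h hT.pg hT1
  have key : ∀ M : Subgroup G, IsMaximalTwoLocal M → normalizer (T : Set G) ≤ M → M = normalizer (W : Set G) := by
    intro M hM hTM
    have hMt : M ≠ ⊤ := by
      rintro rfl
      obtain ⟨U, hU, hU1, hUn⟩ := hM.1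
      exact normalizer_ne_top h hU hU1 hUn.symm
    exact (hM.2 _ ⟨W, hWp, hW1, rfl⟩ (hW M hMt (le_normalizer.trans hTM) (hTM hxT))).symm
  rw [over_eq]
  ext M
  constructor
  · rintro ⟨h3, h4⟩
    exact key M h3 h4
  · rintro rfl
    obtain ⟨M, hM, hle⟩ := QTUnique.exists_maximal (N := normalizer (W : Set G)) ⟨W, hWp, hW1, rfl⟩
    have h3 : normalizer (T : Set G) ≤ normalizer (W : Set G) := hW _ hNT le_normalizer hxT
    rw [key M hM (h3.trans hle)] at hM
    exact ⟨hM, h3⟩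

omit [Finite G] in
/-- conjugation on the normal subgroup `N` is injective -/
theorem conjNormal_injective (h : Wk 2 N x) :
    haveI := h.normal
    Function.Injective (MulAut.conjNormal : G →* MulAut N) := by
  have := h.normal
  rw [injective_iff_map_eq_one]
  intro g hg
  have h1 : g ∈ centralizer (N : Set G) := by
    rw [mem_centralizer_iff]
    intro n hn
    have h2 := congrArg (fun f : MulAut N => ((f ⟨n, hn⟩ : N) : G)) hg
    simp only [MulAut.conjNormal_apply, MulAut.one_apply] at h2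
    exact (mul_inv_eq_iff_eq_mul.1 h2).symm
  rw [h.cent, mem_bot] at h1
  exact h1

/-- an overgroup of `N` of index 2 in the whole automorphism group -/
theorem exists_equiv_aut (h : Wk 2 N x) (hx : x ∉ N) (hc : Nat.card (MulAut N) = 2 * Nat.card N) :
    Nonempty (G ≃* MulAut N) := by
  have := h.normal
  have hinj := conjNormal_injective h
  have hfin : Finite (MulAut N) := Nat.finite_of_card_ne_zero (by rw [hc]; have : 0 < Nat.card N := Nat.card_pos; omega)
  have h1 : Nat.card G ≤ Nat.card (MulAut N) := Nat.card_le_card_of_injective _ hinj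
  have h2 : 2 * Nat.card N ≤ Nat.card G := by
    rw [← N.card_mul_index, mul_comm]
    apply Nat.mul_le_mul_left
    by_contra h3
    have h4 : N.index ≠ 0 := index_ne_zero_of_finite
    have h5 : N.index = 1 := by omega
    rw [index_eq_one] at h5
    exact hx (h5 ▸ mem_top x)
  have hbij : Function.Bijective (MulAut.conjNormal : G →* MulAut N) :=
    (Nat.bijective_iff_injective_and_card _).2 ⟨hinj, by omega⟩
  exact ⟨MulEquiv.ofBijective _ hbij⟩

end frame

/-! ### `Fi24` -/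

open Cfsg.Agent.KFacts.LargeO2 Cfsg.Agent.KFacts.Codes Cfsg.Agent.KFacts.FiTF Cfsg.Agent.H16.NunFiA
open Cfsg.Agent.H16.NunFi24
open Cfsg.Agent.KFacts.FiTF.Defs Cfsg.Agent.KFacts.FiTF.Pts Cfsg.Agent.KFacts.FiTF.Tet

section

variable {F : Type*} [Group F] {K : Subgroup F} {z : F} {x y : ℕ → F} {E : Subgroup F} {Om : Set F}

theorem irrF (h : Frame K z (RG 12 z x) E Om) : Irr (RG 12 z x) z := by
  intro N hN hinv
  exact h.irr N hN fun g hg b hb => hinv g (h.Ez g hg) b hb

/-- **`NUN F` from the frame and the elements moving `z` inside `T`.** -/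
theorem nun_of_frame' [Finite F] (h : Frame K z (RG 12 z x) E Om) (hs : OrbSys.Sys z x y E)
    (hn : ∀ u ∈ TT hs, u ≠ 1 → u ≠ z → ∃ n ∈ K, (n * z * n⁻¹ = u ∨ n * z * n⁻¹ = u * z) ∧
      (n * u * n⁻¹ = z ∨ n * u * n⁻¹ = u ∨ n * u * n⁻¹ = u * z) ∧ ∀ t ∈ TT hs, n * t * n⁻¹ ∈ TT hs) : NUN F := by
  set u : F := yw y wl with hu
  have huE : u ∈ E := yw_mem hs
  have huz : u * z = z * u := h.Ez u huE
  have hu8 : u ^ 8 ∈ RG 12 z x := by
    have : Finite (RG 12 z x) := inferInstance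
    exact mem_of_triv (Abs.large h) (Commute.pow_left (show Commute u z from huz) 8) (H16.NunFiA.triv hs)
  have hu32 : u ^ (2 ^ 5) = 1 := by
    have h1 : (u ^ 8 * u ^ 8) * (u ^ 8 * u ^ 8) = 1 := by
      rcases (Abs.large h).sq _ hu8 with h2 | h2 <;> rw [h2]
      · rw [one_mul]
      · exact hs.zz
    rw [← h1]
    norm_num
    rw [← pow_add, ← pow_add]
  have hW : IsPGroup 2 (zpowers u) := by
    rintro ⟨w, hw⟩
    obtain ⟨k, rfl⟩ := mem_zpowers_iff.1 hw
    refine ⟨5, Subtype.ext ?_⟩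
    show (u ^ k) ^ (2 ^ 5) = 1
    rw [← zpow_natCast, ← zpow_mul, mul_comm, zpow_mul, zpow_natCast, hu32, one_zpow]
  refine H16.NunLarge.nun_of_line (T := TT hs) (Abs.large h) (irrF h) h.odd.not_two_dvd_nat hW ?_ ?_ (card_TT hs) ?_ ?_
  · intro w hw
    obtain ⟨k, rfl⟩ := mem_zpowers_iff.1 hw
    exact (Commute.zpow_left (show Commute u z from huz) k)
  · exact Abs.exists_nontriv h
  · intro a ha hf
    exact ⟨ha, fixed hs ha (hf u (mem_zpowers u))⟩
  · intro a ha ha1 haz
    obtain ⟨n, -, h1, h2, h3⟩ := hn a ha ha1 haz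
    exact ⟨n, h1, h2, h3⟩

end

/-- **`NUN` for `Fi24`.** -/
theorem nun_F : NUN Spor.Fi24 := by
  have : Finite Spor.Fi24 := Cfsg.Agent.R08.FiTwentyFour.finite_Fi24
  refine nun_of_frame' (K := commutator Spor.Fi24) (z := z) (x := x) (E := E) frame RQ.sys ?_
  intro u hu hu1 huz
  rcases cases_TT RQ.sys hu hu1 huz with h | h | h
  · obtain ⟨h1, h2⟩ := move v1_TT n0_z n0_v1 h
    exact ⟨nn 0, nn_mem 0, h1, h2, norm_TT (by rw [n0_z]; exact v1_TT) (by rw [n0_v1]; exact z_TT)
      (by rw [n0_v2]; exact v2_TT)⟩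
  · obtain ⟨h1, h2⟩ := move v2_TT n1_z n1_v2 h
    exact ⟨nn 1, nn_mem 1, h1, h2, norm_TT (by rw [n1_z]; exact v2_TT) (by rw [n1_v1]; exact v1_TT)
      (by rw [n1_v2]; exact z_TT)⟩
  · have hv3 : (x 0 * x 1) * (x 6 * x 7) ∈ TT RQ.sys := ez_TT v3_ez ((TT RQ.sys).mul_mem v1_TT v2_TT)
    obtain ⟨h1, h2⟩ := move hv3 n2_z n2_v3 h
    exact ⟨nn 2, nn_mem 2, h1, h2, norm_TT (by rw [n2_z]; exact hv3) (by rw [n2_v1]; exact v1_TT)
      (by rw [n2_v2]; exact (TT RQ.sys).mul_mem z_TT v1_TT)⟩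

/-- `Fi24` is the automorphism group of `Fi24'` -/
theorem exists_equiv_F : Nonempty (Spor.Fi24 ≃* MulAut Spor.Fi24') := by
  have hfin : Finite Spor.Fi24 := Cfsg.Agent.R08.FiTwentyFour.finite_Fi24
  have H := frame
  refine ⟨MulEquiv.ofBijective (MulAut.conjNormal : Spor.Fi24 →* MulAut (commutator Spor.Fi24)) ⟨?_, ?_⟩⟩
  · rw [injective_iff_map_eq_one]
    intro g hg
    have h1 : ∀ n ∈ commutator Spor.Fi24, g * n = n * g := by
      intro n hn
      have h2 := congrArg (fun f : MulAut (commutator Spor.Fi24) => ((f ⟨n, hn⟩ : commutator Spor.Fi24) : Spor.Fi24)) hg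
      simp only [MulAut.conjNormal_apply, MulAut.one_apply] at h2
      exact mul_inv_eq_iff_eq_mul.1 h2
    rcases H.cent g fun r hr => h1 r (H.EK (H.RE hr)) with h3 | h3
    · exact h3
    · exfalso
      obtain ⟨k, hk, t, -, -, -, -, -, h4⟩ := H.yt
      apply h4
      have h5 := h1 k hk
      rw [h3] at h5
      rw [← h5, mul_inv_cancel_right]
      exact H.zR
  · intro α
    obtain ⟨g, hg⟩ := exists_conj α
    refine ⟨g, MulEquiv.ext fun s => Subtype.ext ?_⟩
    rw [MulAut.conjNormal_apply, hg]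

/-- **the row of `Fi24'`** -/
theorem fi24 {G : Type u} [Group G] [Finite G] {N : Subgroup G} {x : G} (h : Wk 2 N x) (hx2 : 2 ∣ orderOf x)
    (hN : Spor.IsoFi24' N) : False := by
  have hfin : Finite Spor.Fi24 := Cfsg.Agent.R08.FiTwentyFour.finite_Fi24
  obtain ⟨e⟩ := hN
  by_cases hx : x ∈ N
  · exact false_of_nun h hx2 hx (nun.congr e.symm)
  · obtain ⟨f⟩ := exists_equiv_F
    have a : MulAut N ≃* MulAut Spor.Fi24' := MulAut.congr e
    obtain ⟨b⟩ := exists_equiv_aut h hx (by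
      rw [Nat.card_congr a.toEquiv, ← Nat.card_congr f.toEquiv, Nat.card_congr e.toEquiv,
        ← (commutator Spor.Fi24).card_mul_index, frame.two, mul_comm])
    exact false_of_nun' h hx2 (nun_F.congr ((f.trans a.symm).trans b.symm))

end Cfsg.Agent.H462.TwoRow.FiTF
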