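import Cfsg.Agent.H516.TwoFrame
import Cfsg.Agent.H16.NunFi22

/-!
# The row of `Fi22` at the prime 2 for S4094 and S3842 (helper462)

`Z(S) = ⟨d d'⟩` and `⟨S ∩ T⟩` (`T` the class of transpositions) are invariant; their normalizers generate `Fi22`.
-/

set_option autoImplicit false

namespace Cfsg.Agent.H462.TwoRow.FiTT

open Subgroup Cfsg Cfsg.Agent.UniqLoc Cfsg.Agent.OddHalf.D8.Fi22 Cfsg.Agent.H16.NunThree Cfsg.Agent.H516.Two
open Cfsg.Agent.H16.NunFi22

universe v
variable {K : Type v} [Group K] {T : Set K} {d d' : K} {R : Subgroup K}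

/-- `C(x) ≤ Y` passes to conjugates under `Y` -/
theorem cent_conj {Y : Subgroup K} {g x : K} (hg : g ∈ Y) (h : ∀ y : K, y * x = x * y → y ∈ Y) :
    ∀ y : K, y * (g * x * g⁻¹) = (g * x * g⁻¹) * y → y ∈ Y := by
  intro y hy
  have h1 : (g⁻¹ * y * g) * x = x * (g⁻¹ * y * g) := by
    calc (g⁻¹ * y * g) * x = g⁻¹ * (y * (g * x * g⁻¹)) * g := by group
      _ = x * (g⁻¹ * y * g) := by rw [hy]; group
  have h2 := Y.mul_mem (Y.mul_mem hg (h _ h1)) (Y.inv_mem hg)
  have h3 : g * (g⁻¹ * y * g) * g⁻¹ = y := by group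
  rwa [h3] at h2

theorem conj_mul' (g x y : K) : g * (x * y) * g⁻¹ = (g * x * g⁻¹) * (g * y * g⁻¹) := by group

/-- a subgroup containing `C(d d')` and `C(d c)`, `c ≠ d, d'` commuting with `d` and `d'`, contains `C(d)` -/
theorem cent_le (kt : KTrans K T) (hd : d ∈ T) (hd' : d' ∈ T) (hne : d ≠ d') (hcm : d * d' = d' * d)
    {c e : K} (hc : c ∈ T) (hcd : c ≠ d) (hcd' : c ≠ d') (h1 : c * d = d * c) (h2 : c * d' = d' * c)
    (he : e ∈ T) (hed : e ≠ d) (hec : e ≠ c) (he1 : e * d = d * e) (he2 : e * c = c * e) (he3 : e * d' ≠ d' * e)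
    {Y : Subgroup K} (hY1 : ∀ y, y * (d * d') = d * d' * y → y ∈ Y) (hY2 : ∀ y, y * (d * c) = d * c * y → y ∈ Y) :
    ∀ y, y * d = d * y → y ∈ Y := by
  -- the good points
  let Gd : K → Prop := fun x => x ∈ T ∧ x ≠ d ∧ x * d = d * x ∧ ∀ y, y * (d * x) = d * x * y → y ∈ Y
  have gd' : Gd d' := ⟨hd', hne.symm, hcm.symm, hY1⟩
  have gc : Gd c := ⟨hc, hcd, h1, hY2⟩
  -- two adjacent good points: all the neighbours of the first are good
  have step : ∀ x y w, Gd x → Gd y → x ≠ y → x * y = y * x → w ∈ T → w ≠ d → w ≠ x → w * d = d * w →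
      w * x = x * w → Gd w := by
    rintro x y w ⟨hx, hx1, hx2, hx3⟩ ⟨hy, hy1, hy2, hy3⟩ hxy hxyc hw hwd hwx hwd2 hwx2
    obtain ⟨g, g1, g2, g3⟩ := kt.trans3 d hd x hx y hy d hd x hx w hw hx1.symm hy1.symm hxy hx1.symm
      hwd.symm hwx.symm hx2.symm hy2.symm hxyc hx2.symm hwd2.symm hwx2.symm
    have hgd : g * d = d * g := mul_inv_eq_iff_eq_mul.1 g1
    have hgx : g * x = x * g := mul_inv_eq_iff_eq_mul.1 g2
    have hgY : g ∈ Y := hx3 g (by rw [← mul_assoc, hgd, mul_assoc, hgx, mul_assoc])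
    refine ⟨hw, hwd, hwd2, ?_⟩
    have h5 := cent_conj hgY hy3
    rw [conj_mul', g1, g3] at h5
    exact h5
  -- the points opposite to `d'`
  have hopp : ∀ x ∈ T, x * d = d * x → x * d' ≠ d' * x → Gd x := by
    intro x hx hxd hxd'
    have h6 : x ∈ {w : K | Gd w ∧ ∃ y, Gd y ∧ w ≠ y ∧ w * y = y * w} := by
      refine kt.conn d hd d' hd' hcm.symm _ ?_ e he x hx he1 hxd he3 hxd' ?_
      · rintro w ⟨hw, y, hy, hwy, hwyc⟩ u hu hud hud' hwu
        have hu1 : u ≠ d := by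
          rintro rfl
          exact hud' hcm
        by_cases huw : u = w
        · rw [huw]; exact ⟨hw, y, hy, hwy, hwyc⟩
        · exact ⟨step w y u hw hy hwy hwyc hu hu1 huw hud hwu.symm, w, hw, huw, hwu.symm⟩
      · exact ⟨step c d' e gc gd' hcd' h2 he hed hec he1 he2, c, gc, hec, he2⟩
    exact h6.1
  -- all the points
  have hall : ∀ x ∈ T, x * d = d * x → x ∈ Y := by
    intro x hx hxd
    by_cases h3 : x * d' = d' * x
    · exact hY1 x (by rw [← mul_assoc, hxd, mul_assoc, h3, mul_assoc])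
    · have h4 := hopp x hx hxd h3
      exact h4.2.2.2 x (by rw [← mul_assoc, hxd, mul_assoc])
  intro y hy
  have h7 : y ∈ closure {x : K | x ∈ T ∧ x * d = d * x} := by
    rw [kt.cent d hd]
    exact mem_centralizer_singleton_iff.2 hy
  refine (closure_le Y).2 ?_ h7
  rintro x ⟨hx, hxd⟩
  exact hall x hx hxd

/-- a subgroup containing `C(d)` and `C(c)`, `c ≠ d` commuting with `d`, is everything -/
theorem eq_top (kt : KTrans K T) (hd : d ∈ T) {c : K} (hc : c ∈ T) (hcd : c ≠ d) (h1 : c * d = d * c)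
    {Y : Subgroup K} (hY1 : ∀ y, y * d = d * y → y ∈ Y) (hY2 : ∀ y, y * c = c * y → y ∈ Y) : Y = ⊤ := by
  have key : ∀ a b w, a ∈ T → b ∈ T → a ≠ b → a * b = b * a → (∀ y, y * a = a * y → y ∈ Y) →
      (∀ y, y * b = b * y → y ∈ Y) → w ∈ T → w ≠ a → w * a = a * w → ∀ y, y * w = w * y → y ∈ Y := by
    intro a b w ha hb hab hcab h3 h4 hw hwa hwac
    obtain ⟨g, g1, g2⟩ := kt.trans2 a ha b hb a ha w hw hab hwa.symm hcab hwac.symm
    have hgY : g ∈ Y := h3 g (mul_inv_eq_iff_eq_mul.1 g1)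
    have h5 := cent_conj hgY h4
    rwa [g2] at h5
  rw [← top_le_iff, ← kt.gen, closure_le]
  intro x hx
  show x ∈ Y
  obtain ⟨w, hw, hw1, hw2, hw3, hw4⟩ := kt.nb d hd x hx
  have h3 := key d c w hd hc hcd.symm h1.symm hY1 hY2 hw hw1 hw3
  exact key w d x hw hd hw1 hw3 h3 hY1 hx hw2.symm hw4.symm x rfl

/-- **the row of `Fi22`** -/
theorem nxc_of_all (h : All K T d d' R) : NXC K := by
  have hfin : Finite K := Sheet22.finite h.facts
  have hp2 : Fact (Nat.Prime 2) := ⟨Nat.prime_two⟩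
  obtain ⟨c, hc, hcd, hcd', h1, h2⟩ := h.kt.nb d h.d_mem d' h.d'_mem
  obtain ⟨e, he, he1, he2, hec⟩ := exists_e h hc hcd hcd' h1 h2
  have hcz : c * (d * d') = d * d' * c := by
    calc c * (d * d') = (c * d) * d' := by group
      _ = d * (c * d') := by rw [h1]; group
      _ = d * d' * c := by rw [h2]; group
  -- the Sylow subgroup
  have hRc : R ≤ centralizer ({d * d'} : Set K) := fun x hx => by
    have := Sheet22.mem_P.1 (h.facts.R_le hx)
    exact mem_centralizer_singleton_iff.2 (Sheet22.z_comm (h.facts.R_le hx))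
  have hc2 : IsPGroup 2 (zpowers c) := QTUnique.isPGroup_zpowers (h.kt.sq c hc)
  have hcn : zpowers c ≤ normalizer (R : Set K) := by
    rw [zpowers_le]
    exact Second.mem_normalizer_of_conj fun x hx => h.facts.R_normal c hcz x hx
  have hRC : IsPGroup 2 (zpowers c ⊔ R : Subgroup K) := hc2.to_sup_of_normal_right' h.facts.R_two hcn
  have hle : zpowers c ⊔ R ≤ centralizer ({d * d'} : Set K) :=
    sup_le (by rw [zpowers_le]; exact mem_centralizer_singleton_iff.2 hcz) hRc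
  obtain ⟨S, hS1, hS2⟩ := H16.NunLarge.exists_sylow_between h.facts.odd.not_two_dvd_nat hRC hle
  have hcS : c ∈ (S : Subgroup K) := hS1 ((le_sup_left : zpowers c ≤ _) (mem_zpowers c))
  have hRS : R ≤ S := le_sup_right.trans hS1
  have hdS : d ∈ (S : Subgroup K) := hRS h.facts.d_mem
  have hd'S : d' ∈ (S : Subgroup K) := hRS h.facts.d'_mem
  have hzS : d * d' ∈ (S : Subgroup K) := S.mul_mem hdS hd'S
  have hz1 := Sheet22.z_ne h.facts
  have hzz := Sheet22.zz h.facts
  refine ⟨S, fun Y hY => ?_⟩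
  have hzZ : ∀ α : MulAut K, (S : Subgroup K).map α.toMonoidHom = S → α (d * d') = d * d' := fun α hα =>
    fix_of_center hz1 hzS (fun t ht => mem_centralizer_singleton_iff.1 (hS2 ht))
      (fun y hy hy' => h.facts.center_S S hS2 y hy fun t ht => (hy' t ht).symm) hα
  have hzne : zpowers (d * d') ≠ ⊥ := by
    rw [Ne, zpowers_eq_bot]; exact hz1
  have hntop : ∀ P : Subgroup K, IsPGroup 2 P → P ≠ ⊤ := by
    rintro P hP rfl
    have h3 : (c * e) ^ 3 = 1 := by
      rcases h.kt.three c hc e he with h3 | h3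
      · exact absurd h3.symm hec
      · have hee := h.kt.sq e he
        calc (c * e) ^ 3 = (c * e * c) * (e * c * e) := by rw [pow_succ, pow_two]; group
          _ = (e * c * e) * (e * c * e) := by rw [h3]
          _ = e * c * (e * e) * c * e := by group
          _ = e * (c * c) * e := by rw [hee]; group
          _ = 1 := by rw [h.kt.sq c hc, mul_one, hee]
    have h4 := eq_one_of_three (mem_top (c * e)) hP h3
    apply hec
    have h5 : c = e⁻¹ := eq_inv_of_mul_eq_one_left h4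
    rw [h5, mul_inv_cancel, inv_mul_cancel]
  have hCz : ∀ y, y * (d * d') = d * d' * y → y ∈ Y := fun y hy =>
    hY _ hzne (hntop _ (QTUnique.isPGroup_zpowers hzz)) (inv_zpowers hzZ)
      (le_normalizer_zpowers hy)
  -- the normaliser of `⟨S ∩ T⟩`
  have hTc : Comm T := comm_of_three h.kt.sq h.kt.three
  obtain ⟨g, g1, g2⟩ := h.kt.trans2 d h.d_mem d' h.d'_mem c hc d h.d_mem h.facts.ne hcd h.facts.comm h1
  obtain ⟨n, hn, n1, n2⟩ := fusion S h.kt.conj hTc ⟨hdS, h.d_mem⟩ ⟨hd'S, h.d'_mem⟩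
    (g := g) (by rw [g1]; exact ⟨hcS, hc⟩) (by rw [g2]; exact ⟨hdS, h.d_mem⟩)
  have hVS : closure (((S : Subgroup K) : Set K) ∩ T) ≤ S := by
    rw [closure_le]
    exact fun x hx => hx.1
  have hV2 : IsPGroup 2 (closure (((S : Subgroup K) : Set K) ∩ T)) := S.isPGroup'.to_le hVS
  have hV1 : closure (((S : Subgroup K) : Set K) ∩ T) ≠ ⊥ := by
    intro h3
    have h4 : d ∈ closure (((S : Subgroup K) : Set K) ∩ T) := subset_closure ⟨hdS, h.d_mem⟩
    rw [h3, mem_bot] at h4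
    exact h.facts.d_ne h4
  have hVi : Inv (S : Subgroup K) (closure (((S : Subgroup K) : Set K) ∩ T)) := by
    refine map_le_of_inv fun α hα y hy => ?_
    have h3 : α.toMonoidHom y ∈ (closure (((S : Subgroup K) : Set K) ∩ T)).map α.toMonoidHom := ⟨y, hy, rfl⟩
    rw [MonoidHom.map_closure] at h3
    refine closure_mono ?_ h3
    rintro _ ⟨x, ⟨hx1, hx2⟩, rfl⟩
    exact ⟨(mem_of_map hα).2 hx1, h.kt.aut α x hx2⟩
  have hnY : n ∈ Y := hY _ hV1 (hntop _ hV2) hVi hn
  rw [g1] at n1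
  rw [g2] at n2
  have hCc : ∀ y, y * (d * c) = d * c * y → y ∈ Y := by
    have h3 := cent_conj hnY hCz
    rw [conj_mul', n1, n2, h1] at h3
    exact h3
  -- a transposition commuting with `d` and `c`, not with `d'`
  obtain ⟨f, f1, f2, f3⟩ := h.kt.trans3 d h.d_mem d' h.d'_mem c hc d h.d_mem c hc d' h.d'_mem h.facts.ne hcd.symm
    hcd'.symm hcd.symm h.facts.ne hcd' h.facts.comm h1.symm h2.symm h1.symm h.facts.comm h2
  have hcj : ∀ {a b : K}, a * b = b * a → (f * a * f⁻¹) * (f * b * f⁻¹) = (f * b * f⁻¹) * (f * a * f⁻¹) := by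
    intro a b hab
    rw [← conj_mul', hab, conj_mul']
  have he' : f * e * f⁻¹ ∈ T := h.kt.conj f e he
  have e1 : f * e * f⁻¹ * d = d * (f * e * f⁻¹) := by have := hcj he1; rwa [f1] at this
  have e2 : f * e * f⁻¹ * c = c * (f * e * f⁻¹) := by have := hcj he2; rwa [f2] at this
  have e3 : f * e * f⁻¹ * d' ≠ d' * (f * e * f⁻¹) := by
    intro h3
    rw [← f3, ← conj_mul', ← conj_mul'] at h3
    exact hec (mul_left_cancel (mul_right_cancel h3))
  have e4 : f * e * f⁻¹ ≠ d := by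
    intro h3
    rw [h3] at e3
    exact e3 h.facts.comm
  have e5 : f * e * f⁻¹ ≠ c := by
    intro h3
    rw [h3] at e3
    exact e3 h2
  have hCd := cent_le h.kt h.d_mem h.d'_mem h.facts.ne h.facts.comm hc hcd hcd' h1 h2 he' e4 e5 e1 e2 e3 hCz hCc
  have hCc' := cent_conj hnY hCd
  rw [n1] at hCc'
  exact eq_top h.kt h.d_mem hc hcd h1 hCd hCc'

/-- **the row of `Fi22`** -/
theorem nxc (h : Spor.IsoFi22 K) : NXC K := by
  obtain ⟨T, d, d', R, h1⟩ := exists_all h
  exact nxc_of_all h1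

end Cfsg.Agent.H462.TwoRow.FiTT
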